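import Groth.Agent.FCohLib.AlgzIso
import Groth.Agent.KFlatLib.PerfectPull
import Groth.Agent.LefAlgzLib.Hom
import Groth.Prelude.Def_Lef

/-!
# Bijectivity on completions gives bijectivity into the formal structure sheaf
-/

set_option autoImplicit false
set_option linter.style.haveILetI false

universe u

open CategoryTheory CategoryTheory.Limits AlgebraicGeometry TopologicalSpace Opposite

noncomputable section

namespace FEtLefLib

theorem unit_pullUnit {Z X : Scheme.{u}} (f : Z ⟶ X) :
    (Scheme.Modules.pullbackPushforwardAdjunction f).unit.app (Coh.structureModule X) ≫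
      (Scheme.Modules.pushforward f).map (KFlatLib.pullUnitIso f).hom = ClSub.unitToPush f := by
  exact ((Scheme.Modules.pullbackPushforwardAdjunction f).homEquiv_unit _ _ _).symm.trans
    (((Scheme.Modules.pullbackPushforwardAdjunction f).homEquiv _ _).apply_symm_apply (ClSub.unitToPush f))

section Gen

variable {Z₀ Z₁ X : Scheme.{u}} (τ : Z₀ ⟶ Z₁) (j₁ : Z₁ ⟶ X) {j₀ : Z₀ ⟶ X} (hc : τ ≫ j₁ = j₀)

/-- The reduction of functions from one closed subscheme to a smaller one. -/
def qMap : (Scheme.Modules.pushforward j₁).obj (Coh.structureModule Z₁) ⟶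
    (Scheme.Modules.pushforward j₀).obj (Coh.structureModule Z₀) :=
  (Scheme.Modules.pushforward j₁).map (ClSub.unitToPush τ) ≫
    (FCohLib.pushTri τ j₁ hc).hom.app (Coh.structureModule Z₀)

theorem unitToPush_qMap : ClSub.unitToPush j₁ ≫ qMap τ j₁ hc = ClSub.unitToPush j₀ := by
  subst hc
  rw [LeffPicLib.unitToPush_comp]
  refine congrArg (_ ≫ ·) (congrArg (_ ≫ ·) ?_)
  refine Scheme.Modules.hom_ext _ _ fun U => ?_
  simp

/-- The transpose, read in the pullback of the structure sheaf. -/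
def toO {Z : Scheme.{u}} (j : Z ⟶ X) {D : X.Modules}
    (y : D ⟶ (Scheme.Modules.pushforward j).obj (Coh.structureModule Z)) :
    (Scheme.Modules.pullback j).obj D ⟶ (Scheme.Modules.pullback j).obj (Coh.structureModule X) :=
  ((Scheme.Modules.pullbackPushforwardAdjunction j).homEquiv D (Coh.structureModule Z)).symm y ≫
    (KFlatLib.pullUnitIso j).inv

theorem eq_of_map_eq_toO {Z : Scheme.{u}} (j : Z ⟶ X) {D : X.Modules}
    (y : D ⟶ (Scheme.Modules.pushforward j).obj (Coh.structureModule Z)) {φ : D ⟶ Coh.structureModule X}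
    (h : (Scheme.Modules.pullback j).map φ = toO j y) : φ ≫ ClSub.unitToPush j = y := by
  have e : (Scheme.Modules.pullbackPushforwardAdjunction j).homEquiv D _
      ((Scheme.Modules.pullback j).map φ ≫ (KFlatLib.pullUnitIso j).hom) = φ ≫ ClSub.unitToPush j := by
    rw [Adjunction.homEquiv_naturality_left, Adjunction.homEquiv_unit, unit_pullUnit]
  rw [← e, h, toO, Category.assoc, Iso.inv_hom_id, Category.comp_id, Equiv.apply_symm_apply]

theorem map_eq_of_eq {Z : Scheme.{u}} (j : Z ⟶ X) {D : X.Modules} {φ ψ : D ⟶ Coh.structureModule X}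
    (h : φ ≫ ClSub.unitToPush j = ψ ≫ ClSub.unitToPush j) :
    (Scheme.Modules.pullback j).map φ = (Scheme.Modules.pullback j).map ψ := by
  refine (cancel_mono (KFlatLib.pullUnitIso j).hom).1
    (((Scheme.Modules.pullbackPushforwardAdjunction j).homEquiv D _).injective ?_)
  rw [Adjunction.homEquiv_naturality_left, Adjunction.homEquiv_naturality_left, Adjunction.homEquiv_unit,
    unit_pullUnit]
  exact h

include hc in
theorem toO_comm [IsClosedImmersion j₀] {D : X.Modules}
    (y₁ : D ⟶ (Scheme.Modules.pushforward j₁).obj (Coh.structureModule Z₁))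
    (y₀ : D ⟶ (Scheme.Modules.pushforward j₀).obj (Coh.structureModule Z₀)) (hy : y₁ ≫ qMap τ j₁ hc = y₀) :
    (Scheme.Modules.pullback τ).map (toO j₁ y₁) ≫ (FCohLib.pullTri τ j₁ hc).hom.app (Coh.structureModule X) =
      (FCohLib.pullTri τ j₁ hc).hom.app D ≫ toO j₀ y₀ := by
  have hq : qMap τ j₁ hc = (Scheme.Modules.pushforward j₁).map
      ((Scheme.Modules.pullbackPushforwardAdjunction τ).unit.app _ ≫
        (Scheme.Modules.pushforward τ).map (KFlatLib.pullUnitIso τ).hom) ≫ (FCohLib.pushTri τ j₁ hc).hom.app _ := by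
    rw [unit_pullUnit, qMap]
  have key : ∀ {M : X.Modules} {π₁ : M ⟶ (Scheme.Modules.pushforward j₁).obj (Coh.structureModule Z₁)}
      {π₀ : M ⟶ (Scheme.Modules.pushforward j₀).obj (Coh.structureModule Z₀)}, π₁ ≫ qMap τ j₁ hc = π₀ →
      ∀ {θ₁ θ₀}, (Scheme.Modules.pullbackPushforwardAdjunction j₁).unit.app M ≫
          (Scheme.Modules.pushforward j₁).map θ₁ = π₁ →
        (Scheme.Modules.pullbackPushforwardAdjunction j₀).unit.app M ≫
          (Scheme.Modules.pushforward j₀).map θ₀ = π₀ →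
        (Scheme.Modules.pullback τ).map θ₁ ≫ (KFlatLib.pullUnitIso τ).hom =
          (FCohLib.pullTri τ j₁ hc).hom.app M ≫ θ₀ := by
    intro M π₁ π₀ hπ θ₁ θ₀ h₁ h₀
    exact FCohLib.compat_adjuncts τ j₁ hc hπ (γ₁ := 𝟙 _) (γ₀ := 𝟙 _)
      ((Category.comp_id _).trans (hq.trans (Category.id_comp _).symm))
      (h₁.trans (Category.comp_id _).symm) (h₀.trans (Category.comp_id _).symm)
  have c1 := key hy
    (((Scheme.Modules.pullbackPushforwardAdjunction j₁).homEquiv_unit _ _ _).symm.trans (Equiv.apply_symm_apply _ _))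
    (((Scheme.Modules.pullbackPushforwardAdjunction j₀).homEquiv_unit _ _ _).symm.trans (Equiv.apply_symm_apply _ _))
  have c2 := key (unitToPush_qMap τ j₁ hc) (unit_pullUnit j₁) (unit_pullUnit j₀)
  rw [toO, toO, Functor.map_comp, ← cancel_mono (KFlatLib.pullUnitIso j₀).hom, Category.assoc, Category.assoc,
    ← c2, ← Functor.map_comp_assoc ((Scheme.Modules.pullback τ)) (KFlatLib.pullUnitIso j₁).inv, Iso.inv_hom_id,
    CategoryTheory.Functor.map_id, Category.id_comp]
  refine c1.trans ?_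
  exact (by simp : ∀ {A B C E : Z₀.Modules} (a : A ⟶ B) (b : B ⟶ C) (e : E ≅ C), a ≫ b = (a ≫ b ≫ e.inv) ≫ e.hom) _ _ _

end Gen

variable {X : Scheme.{u}} (𝓘 : X.IdealSheafData)

/-- The morphism of completions of a compatible family of maps to the structure sheaves. -/
def sysMap {D : X.Modules}
    (y : ∀ n : ℕ, D ⟶ (Scheme.Modules.pushforward (FSch.completionToX X 𝓘 n)).obj
      (Coh.structureModule ((FSch.completionAlong X 𝓘).X n)))
    (hy : ∀ n, y (n + 1) ≫ qMap ((FSch.completionAlong X 𝓘).ι n) (FSch.completionToX X 𝓘 (n + 1))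
      (FSch.completionToX_comm X 𝓘 n) = y n) :
    FSch.complMod 𝓘 D ⟶ FSch.complMod 𝓘 (Coh.structureModule X) :=
  ⟨fun n => toO (FSch.completionToX X 𝓘 n) (y n), fun n => by
    rw [FCohLib.complMod_e_hom, FCohLib.complMod_e_hom]
    exact toO_comm _ _ _ _ _ (hy n)⟩

theorem quotMap_eq_qMap (n : ℕ) :
    Lef.quotMap (Lef.pow_succ_le 𝓘 n) = qMap ((FSch.completionAlong X 𝓘).ι n) (FSch.completionToX X 𝓘 (n + 1))
      (FSch.completionToX_comm X 𝓘 n) := rfl

/-- Fullness and faithfulness of completion towards the structure sheaf. -/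
theorem homToFormalBijective_of_complModMap (D : X.Modules)
    (h : Function.Bijective fun φ : D ⟶ Coh.structureModule X => FSch.complModMap 𝓘 φ) :
    Lef.HomToFormalBijective 𝓘 D := by
  refine ⟨fun φ ψ hφψ => h.1 (FSch.ModSys.Hom.ext (funext fun n => map_eq_of_eq _ (hφψ n))), fun y hy => ?_⟩
  obtain ⟨φ, hφ⟩ := h.2 (sysMap 𝓘 y fun n => (congrArg (y (n + 1) ≫ ·) (quotMap_eq_qMap 𝓘 n)).symm.trans (hy n))
  exact ⟨φ, fun n => eq_of_map_eq_toO (FSch.completionToX X 𝓘 n) (y n)
    (congrArg (fun q => FSch.ModSys.Hom.app q n) hφ)⟩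

end FEtLefLib

end
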