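import Groth.Agent.FEtLefLib.Trace
import Groth.Agent.LefAlgzLib.Hom
import Groth.Agent.LefConnLib.Basic
import Groth.Agent.ClopenFFLib.AppBij
import Groth.Agent.S1063
import Groth.Prelude.Def_Lef

/-!
# Clopen subsets of a finite étale cover and of its trace on a closed subscheme
-/

set_option autoImplicit false
set_option linter.style.haveILetI false
set_option linter.unusedSectionVars false

universe u

open CategoryTheory CategoryTheory.Limits AlgebraicGeometry TopologicalSpace Opposite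

noncomputable section

namespace FEtLefLib

variable {Y X : Scheme.{u}} (π : Y ⟶ X) (𝓘 : X.IdealSheafData) (C' : Set Y)

attribute [local instance] pAlg

/-- The extended ideal on a preimage. -/
def extI {V : X.Opens} (hV : IsAffineOpen V) : Ideal Γ(Y, π ⁻¹ᵁ V) := (𝓘.ideal ⟨V, hV⟩).map (π.app V).hom

/-- A lift modulo the `(n+1)`-st power of the idempotent of `C'`. -/
def IsLift (n : ℕ) {V : X.Opens} (hV : IsAffineOpen V) (e : Γ(Y, π ⁻¹ᵁ V)) : Prop :=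
  e * e - e ∈ extI π 𝓘 hV ^ (n + 1) ∧
    ∀ y ∈ π ⁻¹ᵁ V, π y ∈ 𝓘.support → (y ∈ Y.basicOpen e ↔ y ∈ C')

variable [IsFinite π]

omit [IsFinite π] in
theorem mem_support_iff {V : X.Opens} (hV : IsAffineOpen V) {y : Y} (hy : y ∈ π ⁻¹ᵁ V) :
    π y ∈ 𝓘.support ↔ ∀ b ∈ extI π 𝓘 hV, y ∉ Y.basicOpen b := by
  have h1 : π y ∈ 𝓘.support ↔ ∀ a ∈ 𝓘.ideal ⟨V, hV⟩, π y ∉ X.basicOpen a := by
    have e := Set.ext_iff.1 (𝓘.coe_support_inter ⟨V, hV⟩) (π y)
    refine Iff.trans ⟨fun h => (e.1 ⟨h, hy⟩).1, fun h => (e.2 ⟨h, hy⟩).1⟩ ?_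
    exact Scheme.mem_zeroLocus_iff X _ _
  have h2 : ∀ a : Γ(X, V), π y ∈ X.basicOpen a ↔ y ∈ Y.basicOpen (π.app V a) := fun a => by
    rw [← Scheme.preimage_basicOpen]
    exact Iff.rfl
  rw [h1]
  refine ⟨fun h b hb hyb => ?_, fun h a ha hya => h _ (Ideal.mem_map_of_mem _ ha) ((h2 a).1 hya)⟩
  rw [Y.mem_basicOpen b y hy] at hyb
  have hle : extI π 𝓘 hV ≤ (IsLocalRing.maximalIdeal (Y.presheaf.stalk y)).comap (Y.presheaf.germ _ y hy).hom := by
    refine Ideal.map_le_iff_le_comap.2 fun a ha => ?_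
    exact fun hu => h a ha ((h2 a).2 ((Y.mem_basicOpen _ y hy).2 hu))
  exact hle hb hyb

theorem mem_support_iff_le {V : X.Opens} (hV : IsAffineOpen V) {y : Y} (hy : y ∈ π ⁻¹ᵁ V) :
    π y ∈ 𝓘.support ↔ extI π 𝓘 hV ≤ ((hV.preimage π).primeIdealOf ⟨y, hy⟩).asIdeal := by
  letI : Algebra Γ(Y, π ⁻¹ᵁ V) (Y.presheaf.stalk y) := (Y.presheaf.germ _ y hy).hom.toAlgebra
  haveI := (hV.preimage π).isLocalization_stalk ⟨y, hy⟩
  rw [mem_support_iff π 𝓘 hV hy]
  refine forall_congr' fun b => imp_congr_right fun _ => ?_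
  rw [Y.mem_basicOpen b y hy]
  exact (IsLocalization.AtPrime.isUnit_to_map_iff (Y.presheaf.stalk y) _ b).not.trans not_not

theorem mem_basicOpen_iff {V : X.Opens} (hV : IsAffineOpen V) {y : Y} (hy : y ∈ π ⁻¹ᵁ V) (b : Γ(Y, π ⁻¹ᵁ V)) :
    y ∈ Y.basicOpen b ↔ b ∉ ((hV.preimage π).primeIdealOf ⟨y, hy⟩).asIdeal := by
  letI : Algebra Γ(Y, π ⁻¹ᵁ V) (Y.presheaf.stalk y) := (Y.presheaf.germ _ y hy).hom.toAlgebra
  haveI := (hV.preimage π).isLocalization_stalk ⟨y, hy⟩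
  rw [Y.mem_basicOpen b y hy]
  exact IsLocalization.AtPrime.isUnit_to_map_iff (Y.presheaf.stalk y) _ b

/-- The point of a prime over the extended ideal. -/
theorem exists_point {V : X.Opens} (hV : IsAffineOpen V) (q : PrimeSpectrum Γ(Y, π ⁻¹ᵁ V))
    (hq : extI π 𝓘 hV ≤ q.asIdeal) :
    ∃ (y : Y) (hy : y ∈ π ⁻¹ᵁ V), π y ∈ 𝓘.support ∧ (hV.preimage π).primeIdealOf ⟨y, hy⟩ = q ∧
      y = (hV.preimage π).fromSpec q := by
  have hy : (hV.preimage π).fromSpec q ∈ π ⁻¹ᵁ V := by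
    have := Set.mem_range_self (f := (hV.preimage π).fromSpec) q
    rwa [(hV.preimage π).range_fromSpec] at this
  have e : (hV.preimage π).primeIdealOf ⟨_, hy⟩ = q :=
    (hV.preimage π).fromSpec.isOpenEmbedding.injective ((hV.preimage π).fromSpec_primeIdealOf ⟨_, hy⟩)
  exact ⟨_, hy, (mem_support_iff_le π 𝓘 hV hy).2 (le_of_le_of_eq hq (congrArg PrimeSpectrum.asIdeal e).symm), e, rfl⟩

theorem IsLift.sub_mem {n m : ℕ} (hnm : n ≤ m) {V : X.Opens} {hV : IsAffineOpen V} {e e' : Γ(Y, π ⁻¹ᵁ V)}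
    (he : IsLift π 𝓘 C' n hV e) (he' : IsLift π 𝓘 C' m hV e') : e - e' ∈ extI π 𝓘 hV ^ (n + 1) := by
  let J := extI π 𝓘 hV
  let q := Ideal.Quotient.mk (J ^ (n + 1))
  rw [← Ideal.Quotient.eq]
  have h1 : IsIdempotentElem (q e) := by
    show q e * q e = q e
    rw [← map_mul]
    exact Ideal.Quotient.eq.2 he.1
  have h2 : IsIdempotentElem (q e') := by
    show q e' * q e' = q e'
    rw [← map_mul]
    exact Ideal.Quotient.eq.2 (Ideal.pow_le_pow_right (Nat.succ_le_succ hnm) he'.1)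
  refine PrimeSpectrum.basicOpen_injOn_isIdempotentElem h1 h2 (TopologicalSpace.Opens.ext (Set.ext fun p => ?_))
  have hJ : J ≤ (PrimeSpectrum.comap q p).asIdeal := by
    refine (PrimeSpectrum.comap q p).isPrime.le_of_pow_le (n := n + 1) fun a ha => ?_
    show q a ∈ p.asIdeal
    rw [show q a = 0 from Ideal.Quotient.eq_zero_iff_mem.2 ha]
    exact p.asIdeal.zero_mem
  obtain ⟨y, hy, hys, hyp, -⟩ := exists_point π 𝓘 hV _ hJ
  show q e ∉ p.asIdeal ↔ q e' ∉ p.asIdeal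
  show e ∉ (PrimeSpectrum.comap q p).asIdeal ↔ e' ∉ (PrimeSpectrum.comap q p).asIdeal
  rw [← hyp, ← mem_basicOpen_iff π hV hy, ← mem_basicOpen_iff π hV hy, he.2 y hy hys, he'.2 y hy hys]

theorem IsLift.res {n : ℕ} {V T : X.Opens} {hV : IsAffineOpen V} {hT : IsAffineOpen T} (h : T ≤ V)
    {e : Γ(Y, π ⁻¹ᵁ V)} (he : IsLift π 𝓘 C' n hV e) : IsLift π 𝓘 C' n hT (ry π h e) := by
  have hle : (extI π 𝓘 hV).map (ry π h) ≤ extI π 𝓘 hT := by
    rw [extI, Ideal.map_map, Ideal.map_le_iff_le_comap]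
    intro a ha
    refine Eq.mpr (congrArg (· ∈ extI π 𝓘 hT) (ry_app π h a)) ?_
    refine Ideal.mem_map_of_mem _ ?_
    rw [← 𝓘.map_ideal (U := ⟨T, hT⟩) (V := ⟨V, hV⟩) h]
    exact Ideal.mem_map_of_mem _ ha
  refine ⟨?_, fun y hy hys => ?_⟩
  · have h1 := Ideal.mem_map_of_mem (ry π h) he.1
    rw [Ideal.map_pow, map_sub, map_mul] at h1
    exact Ideal.pow_right_mono hle _ h1
  · rw [← he.2 y (π.preimage_mono h hy) hys, Scheme.basicOpen_res]
    exact ⟨fun H => H.2, fun H => ⟨hy, H⟩⟩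

variable {C'}

theorem exists_isLift (hsub : ∀ y ∈ C', π y ∈ 𝓘.support) (hc1 : IsClosed C')
    (hc2 : IsClosed ((π ⁻¹' (𝓘.support : Set X)) \ C')) (n : ℕ) {V : X.Opens} (hV : IsAffineOpen V) :
    ∃ e, IsLift π 𝓘 C' n hV e := by
  let J := extI π 𝓘 hV
  let q := Ideal.Quotient.mk (J ^ (n + 1))
  let g : PrimeSpectrum (Γ(Y, π ⁻¹ᵁ V) ⧸ J ^ (n + 1)) → Y :=
    fun p => (hV.preimage π).fromSpec (PrimeSpectrum.comap q p)
  have hg : Continuous g := (hV.preimage π).fromSpec.continuous.comp (PrimeSpectrum.continuous_comap q)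
  have hJ : ∀ p, J ≤ (PrimeSpectrum.comap q p).asIdeal := fun p => by
    refine (PrimeSpectrum.comap q p).isPrime.le_of_pow_le (n := n + 1) fun a ha => ?_
    show q a ∈ p.asIdeal
    rw [show q a = 0 from Ideal.Quotient.eq_zero_iff_mem.2 ha]
    exact p.asIdeal.zero_mem
  have hgs : ∀ p, π (g p) ∈ 𝓘.support := fun p => by
    obtain ⟨y, hy, hys, -, hye⟩ := exists_point π 𝓘 hV _ (hJ p)
    rw [hye] at hys
    exact hys
  have hclopen : IsClopen (g ⁻¹' C') := by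
    refine ⟨hc1.preimage hg, ?_⟩
    have : (g ⁻¹' C')ᶜ = g ⁻¹' ((π ⁻¹' (𝓘.support : Set X)) \ C') :=
      Set.ext fun p => ⟨fun hp => ⟨hgs p, hp⟩, fun hp => hp.2⟩
    exact isClosed_compl_iff.1 (this ▸ hc2.preimage hg)
  obtain ⟨e, he, hs⟩ := PrimeSpectrum.exists_idempotent_basicOpen_eq_of_isClopen hclopen
  obtain ⟨e, rfl⟩ := Ideal.Quotient.mk_surjective e
  refine ⟨e, Ideal.Quotient.eq.1 ((map_mul q e e).trans he), fun y hy hys => ?_⟩
  let Q := (hV.preimage π).primeIdealOf ⟨y, hy⟩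
  obtain ⟨p, hp⟩ : ∃ p, PrimeSpectrum.comap q p = Q := by
    have : Q ∈ Set.range (PrimeSpectrum.comap q) := by
      rw [range_comap_of_surjective _ _ Ideal.Quotient.mk_surjective, PrimeSpectrum.mem_zeroLocus,
        Ideal.mk_ker]
      exact (Ideal.pow_le_self n.succ_ne_zero).trans ((mem_support_iff_le π 𝓘 hV hy).1 hys)
    exact this
  have hgy : g p = y := by
    show (hV.preimage π).fromSpec (PrimeSpectrum.comap q p) = y
    rw [hp]
    exact (hV.preimage π).fromSpec_primeIdealOf ⟨y, hy⟩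
  rw [mem_basicOpen_iff π hV hy, show (hV.preimage π).primeIdealOf ⟨y, hy⟩ = PrimeSpectrum.comap q p from hp.symm]
  conv_rhs => rw [← hgy]
  exact (Set.ext_iff.1 hs p).symm

end FEtLefLib

end
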