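import Mathlib.AlgebraicGeometry.Modules.Sheaf
import Mathlib.Topology.Sheaves.SheafCondition.UniqueGluing
import Mathlib.Topology.Sheaves.Stalks
import Mathlib.Algebra.Category.Grp.FilteredColimits
import Mathlib.Algebra.Category.Grp.Limits

/-!
# Morphisms of modules from maps on a basis of opens
-/

set_option autoImplicit false

universe u

open CategoryTheory CategoryTheory.Limits AlgebraicGeometry TopologicalSpace Opposite

noncomputable section

namespace FEtLefLib

variable {X : Scheme.{u}} (E M : X.Modules) {G : Set X.Opens}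

/-- Restriction of sections. -/
abbrev rm {U V : X.Opens} (h : V ≤ U) (s : Γ(M, U)) : Γ(M, V) := M.presheaf.map (homOfLE h).op s

/-- The sheaf of sections. -/
abbrev shv : TopCat.Sheaf Ab X := ⟨M.presheaf, M.isSheaf⟩

variable {M} in
theorem rm_rm {U V W : X.Opens} (h : V ≤ U) (h' : W ≤ V) (s : Γ(M, U)) :
    rm M h' (rm M h s) = rm M (h'.trans h) s := by
  show (M.presheaf.map (homOfLE h).op ≫ M.presheaf.map (homOfLE h').op) s = _
  rw [← M.presheaf.map_comp]
  rfl

variable {M} in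
theorem rm_self {U : X.Opens} (s : Γ(M, U)) : rm M (le_refl U) s = s := by
  show M.presheaf.map (𝟙 (op U)) s = s
  rw [M.presheaf.map_id]
  rfl

/-- Sections agreeing near every point agree. -/
theorem eq_of_near {U : X.Opens} {s t : Γ(M, U)}
    (h : ∀ x ∈ U, ∃ (V : X.Opens) (hVU : V ≤ U), x ∈ V ∧ rm M hVU s = rm M hVU t) : s = t := by
  refine TopCat.Presheaf.section_ext (shv M) U s t fun x hx => ?_
  obtain ⟨V, hVU, hxV, e⟩ := h x hx
  show M.presheaf.germ U x hx s = M.presheaf.germ U x hx t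
  rw [← TopCat.Presheaf.germ_res_apply M.presheaf (homOfLE hVU) x hxV,
    ← TopCat.Presheaf.germ_res_apply M.presheaf (homOfLE hVU) x hxV]
  exact congrArg (M.presheaf.germ V x hxV) e

variable {E M}

/-- Morphisms agreeing on a basis are equal. -/
theorem hom_ext_basis (hnear : ∀ (U : X.Opens) (x : X), x ∈ U → ∃ V ∈ G, x ∈ V ∧ V ≤ U)
    {φ ψ : E ⟶ M} (h : ∀ V ∈ G, ∀ b, φ.app V b = ψ.app V b) : φ = ψ := by
  refine Scheme.Modules.hom_ext _ _ fun U => ConcreteCategory.hom_ext _ _ fun b => ?_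
  refine eq_of_near M fun x hx => ?_
  obtain ⟨V, hV, hxV, hVU⟩ := hnear U x hx
  refine ⟨V, hVU, hxV, ?_⟩
  have e1 := congr($((Scheme.Modules.Hom.mapPresheaf φ).naturality (homOfLE hVU).op) b)
  have e2 := congr($((Scheme.Modules.Hom.mapPresheaf ψ).naturality (homOfLE hVU).op) b)
  exact e1.symm.trans ((h V hV _).trans e2)

/-- Compatible linear maps on a basis glue. -/
theorem exists_hom_of_basis (hnear : ∀ (U : X.Opens) (x : X), x ∈ U → ∃ V ∈ G, x ∈ V ∧ V ≤ U)
    (lam : ∀ V ∈ G, Γ(E, V) →ₗ[Γ(X, V)] Γ(M, V))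
    (hcompat : ∀ V (hV : V ∈ G) W (hW : W ∈ G), ∀ x ∈ V, x ∈ W → ∃ (T : X.Opens) (hT : T ∈ G) (hTV : T ≤ V)
      (hTW : T ≤ W), x ∈ T ∧ (∀ b, rm M hTV (lam V hV b) = lam T hT (rm E hTV b)) ∧
        ∀ b, rm M hTW (lam W hW b) = lam T hT (rm E hTW b)) :
    ∃ φ : E ⟶ M, ∀ V (hV : V ∈ G) b, φ.app V b = lam V hV b := by
  let Spec_ : ∀ (U : X.Opens), Γ(E, U) → Γ(M, U) → Prop := fun U s t =>
    ∀ V (hV : V ∈ G) (hVU : V ≤ U), rm M hVU t = lam V hV (rm E hVU s)
  have hex : ∀ U s, ∃! t, Spec_ U s t := by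
    intro U s
    let ι := {V : X.Opens // V ≤ U ∧ V ∈ G}
    have hcov : U ≤ ⨆ i : ι, i.1 := fun x hx => by
      obtain ⟨V, hV, hxV, hVU⟩ := hnear U x hx
      exact Opens.mem_iSup.mpr ⟨⟨V, hVU, hV⟩, hxV⟩
    obtain ⟨t, ht, hu⟩ := TopCat.Sheaf.existsUnique_gluing' (shv M) (fun i : ι => i.1) U
      (fun i => homOfLE i.2.1) hcov (fun i => lam i.1 i.2.2 (rm E i.2.1 s)) fun i j => by
        show rm M inf_le_left _ = rm M inf_le_right _
        refine eq_of_near M fun x hx => ?_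
        obtain ⟨T, hT, hTV, hTW, hxT, k₁, k₂⟩ := hcompat i.1 i.2.2 j.1 j.2.2 x hx.1 hx.2
        refine ⟨T, le_inf hTV hTW, hxT, ?_⟩
        rw [rm_rm, rm_rm]
        exact (k₁ _).trans ((congrArg (lam T hT) ((rm_rm _ hTV s).trans (rm_rm _ hTW s).symm)).trans (k₂ _).symm)
    exact ⟨t, fun V hV hVU => ht ⟨V, hVU, hV⟩, fun t' ht' => hu t' fun i => ht' i.1 i.2.2 i.2.1⟩
  choose F hF hFu using hex
  have hnat : ∀ {U W : X.Opens} (h : W ≤ U) (s : Γ(E, U)), F W (rm E h s) = rm M h (F U s) := fun {U W} h s =>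
    (hFu W _ _ fun V hV hVW => by
      rw [rm_rm, rm_rm]
      exact hF U s V hV _).symm
  have hadd : ∀ U a b, F U (a + b) = F U a + F U b := fun U a b => (hFu U _ _ fun V hV hVU => by
    simp only [rm, map_add]
    exact congrArg₂ (· + ·) (hF U a V hV hVU) (hF U b V hV hVU)).symm
  have hsmul : ∀ U (r : Γ(X, U)) (a : Γ(E, U)), F U (r • a) = r • F U a := fun U r a =>
    (hFu U _ _ fun V hV hVU => by
      simp only [rm]
      rw [Scheme.Modules.map_smul, Scheme.Modules.map_smul, map_smul]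
      exact congrArg (_ • ·) (hF U a V hV hVU)).symm
  refine ⟨⟨PresheafOfModules.homMk
    { app := fun U => AddCommGrpCat.ofHom (AddMonoidHom.mk' (F U.unop) (hadd U.unop))
      naturality := fun U V i => by
        ext a
        exact hnat i.unop.le a }
    (fun U r a => hsmul U.unop r a)⟩, fun V hV b => ?_⟩
  exact (rm_self _).symm.trans ((hF V b V hV (le_refl V)).trans (congrArg (lam V hV) (rm_self b)))

end FEtLefLib

end
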