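import Groth.Agent.FEtLefLib.Formal

/-!
# Full faithfulness of restriction of finite étale covers from the Lefschetz condition
-/

set_option autoImplicit false
set_option linter.style.haveILetI false
set_option linter.unusedSectionVars false

universe u

open CategoryTheory CategoryTheory.Limits AlgebraicGeometry TopologicalSpace Opposite

noncomputable section

namespace FEtLefLib

variable {Y X : Scheme.{u}} (π : Y ⟶ X) (𝓘 : X.IdealSheafData)

attribute [local instance] pAlg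

/-- Reduction of a function to a closed subscheme. -/
abbrev red (K : X.IdealSheafData) (V : X.Opens) (t : Γ(X, V)) : Γ(ClSub.quotMod K, V) :=
  (ClSub.toSubscheme K).app V t

theorem red_eq_zero_iff (K : X.IdealSheafData) {V : X.Opens} (hV : IsAffineOpen V) (t : Γ(X, V)) :
    red K V t = 0 ↔ t ∈ K.ideal ⟨V, hV⟩ :=
  iff_of_eq (congrArg (t ∈ ·) (Scheme.IdealSheafData.ker_subschemeι_app K ⟨V, hV⟩))

theorem red_eq_iff (K : X.IdealSheafData) {V : X.Opens} (hV : IsAffineOpen V) (s t : Γ(X, V)) :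
    red K V s = red K V t ↔ s - t ∈ K.ideal ⟨V, hV⟩ := by
  rw [← red_eq_zero_iff, ← sub_eq_zero]
  exact iff_of_eq (congrArg (· = 0) (map_sub _ _ _).symm)

theorem rm_red (K : X.IdealSheafData) {U V : X.Opens} (h : V ≤ U) (t : Γ(X, U)) :
    rm (ClSub.quotMod K) h (red K U t) = red K V (rx h t) :=
  (congr($((Scheme.Modules.Hom.mapPresheaf (ClSub.toSubscheme K)).naturality (homOfLE h).op) t)).symm

theorem quotMap_red {I J : X.IdealSheafData} (h : I ≤ J) (V : X.Opens) (t : Γ(X, V)) :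
    (Lef.quotMap h).app V (red I V t) = red J V t :=
  congr($(congrArg (fun f : Coh.structureModule X ⟶ ClSub.quotMod J => Scheme.Modules.Hom.app f V)
    (LefAlgzLib.toSubscheme_quotMap h)) t)

variable [IsFinite π] [Etale π]

theorem red_tr_eq {n : ℕ} {V : X.Opens} (hV : IsAffineOpen V) {u v : Γ(Y, π ⁻¹ᵁ V)}
    (h : u - v ∈ extI π 𝓘 hV ^ (n + 1)) :
    red (𝓘 ^ (n + 1)) V (tr π V u) = red (𝓘 ^ (n + 1)) V (tr π V v) := by
  rw [red_eq_iff _ hV, show tr π V u - tr π V v = tr π V (u - v) from (map_sub (Algebra.trace _ _) _ _).symm]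
  refine tr_mem_of_mem_map π _ ?_
  rw [Scheme.IdealSheafData.ideal_pow, Pi.pow_apply, Ideal.map_pow]
  exact h

variable {π 𝓘}

/-- The clopen subsets of a finite étale cover are those of its trace on `V(𝓘)`. -/
theorem existsUnique_clopen (h : ∀ D : X.Modules, FlatMod.IsFinLocFree D → Lef.HomToFormalBijective 𝓘 D)
    (C' : Set Y) (hsub : ∀ y ∈ C', π y ∈ 𝓘.support) (hc1 : IsClosed C')
    (hc2 : IsClosed ((π ⁻¹' (𝓘.support : Set X)) \ C')) :
    ∃! C : Clopens Y, ∀ y, π y ∈ 𝓘.support → (y ∈ C ↔ y ∈ C') := by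
  classical
  let E := (Scheme.Modules.pushforward π).obj (Coh.structureModule Y)
  have hE : FlatMod.IsFinLocFree E := Groth.Agent.S1063.isFinLocFree_pf π
    ⟨inferInstance, inferInstance, inferInstance⟩ (Groth.Agent.S1063.isFinLocFree_structureModule Y)
  have hH := h E hE
  choose e he using fun (n : ℕ) (V : {V : X.Opens // Good π V}) => exists_isLift π 𝓘 hsub hc1 hc2 n V.2.1
  let lam : ∀ (n : ℕ) (V : X.Opens), V ∈ {V | Good π V} → (Γ(E, V) →ₗ[Γ(X, V)] Γ(ClSub.quotMod (𝓘 ^ (n + 1)), V)) :=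
    fun n V hV =>
    { toFun := fun b => red _ V (tr π V (e n ⟨V, hV⟩ * (show Γ(Y, π ⁻¹ᵁ V) from b)))
      map_add' := fun b c => (congrArg (red _ V) ((congrArg (tr π V) (mul_add _ _ _)).trans
        (map_add (Algebra.trace _ _) _ _))).trans (map_add _ _ _)
      map_smul' := fun r b => by
        refine Eq.trans (congrArg (red (𝓘 ^ (n + 1)) V) ?_)
          ((ClSub.toSubscheme (𝓘 ^ (n + 1))).app_smul (U := V) r (tr π V (e n ⟨V, hV⟩ * (show Γ(Y, π ⁻¹ᵁ V) from b))))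
        show Algebra.trace _ _ (_ * (algebraMap Γ(X, V) Γ(Y, π ⁻¹ᵁ V) r * _)) = r * Algebra.trace _ _ _
        rw [mul_left_comm, ← Algebra.smul_def, map_smul, smul_eq_mul] }
  have hy : ∀ n, ∃ y : E ⟶ ClSub.quotMod (𝓘 ^ (n + 1)), ∀ V (hV : Good π V) (b : Γ(Y, π ⁻¹ᵁ V)),
      y.app V b = red _ V (tr π V (e n ⟨V, hV⟩ * b)) := fun n => by
    obtain ⟨y, hy⟩ := exists_hom_of_basis (G := {V | Good π V}) (fun U x hx => exists_good_near π U x hx) (lam n)
      fun V hV W hW x hxV hxW => by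
        obtain ⟨T, hT, hTV, hTW, hxT, ⟨k₁, -⟩, k₂, -⟩ := exists_common π hV hW hxV hxW
        have key : ∀ {U : X.Opens} (hU : Good π U) (hTU : T ≤ U),
            (∀ a, tr π T (ry π hTU a) = rx hTU (tr π U a)) → ∀ b : Γ(Y, π ⁻¹ᵁ U),
            rm _ hTU (red (𝓘 ^ (n + 1)) U (tr π U (e n ⟨U, hU⟩ * b))) =
              red (𝓘 ^ (n + 1)) T (tr π T (e n ⟨T, hT⟩ * ry π hTU b)) := fun {U} hU hTU k b => by
          rw [rm_red, ← k, map_mul]
          refine red_tr_eq π 𝓘 hT.1 ?_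
          rw [← sub_mul]
          exact Ideal.mul_mem_right _ _
            (((he n ⟨U, hU⟩).res (hT := hT.1) π 𝓘 C' hTU).sub_mem π 𝓘 C' le_rfl (he n ⟨T, hT⟩))
        exact ⟨T, hT, hTV, hTW, hxT, key hV hTV k₁, key hW hTW k₂⟩
    exact ⟨y, fun V hV b => hy V hV b⟩
  choose yn hyn using hy
  obtain ⟨φ, hφ⟩ := hH.2 yn fun n => hom_ext_basis (G := {V | Good π V})
    (fun U x hx => exists_good_near π U x hx) fun V hV b => by
      show (Lef.quotMap (Lef.pow_succ_le 𝓘 n)).app V ((yn (n + 1)).app V b) = (yn n).app V b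
      rw [hyn (n + 1) V hV b, hyn n V hV b]
      rw [quotMap_red]
      refine red_tr_eq π 𝓘 hV.1 ?_
      rw [← sub_mul, ← neg_sub, neg_mul]
      exact neg_mem (Ideal.mul_mem_right _ _
        ((he n ⟨V, hV⟩).sub_mem π 𝓘 C' n.le_succ (he (n + 1) ⟨V, hV⟩)))
  -- the section `a` with `φ = tr (a · -)`
  let lφ : ∀ V, Γ(Y, π ⁻¹ᵁ V) →ₗ[Γ(X, V)] Γ(X, V) := fun V =>
    { toFun := fun b => φ.app V b
      map_add' := fun b c => map_add _ _ _
      map_smul' := fun r b => φ.app_smul (U := V) r b }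
  choose a ha using fun V : {V : X.Opens // Good π V} => (perfect π V.2).2 (lφ V.1)
  have ha' : ∀ (V : {V : X.Opens // Good π V}) (b : Γ(Y, π ⁻¹ᵁ V.1)), φ.app V.1 b = tr π V.1 (a V * b) :=
    fun V b => (LinearMap.congr_fun (ha V) b).symm
  have hares : ∀ (T V : {V : X.Opens // Good π V}) (hTV : T.1 ≤ V.1),
      (∀ c, tr π T.1 (ry π hTV c) = rx hTV (tr π V.1 c)) →
      (∀ u v, (∀ b, tr π T.1 (u * ry π hTV b) = tr π T.1 (v * ry π hTV b)) → u = v) →
      ry π hTV (a V) = a T := fun T V hTV k ext => ext _ _ fun b => by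
    rw [← map_mul, k, ← ha', ← ha']
    exact (congr($((Scheme.Modules.Hom.mapPresheaf φ).naturality (homOfLE hTV).op) b)).symm
  obtain ⟨s₀, hs₀, -⟩ := Y.sheaf.existsUnique_gluing' (fun V : {V : X.Opens // Good π V} => π ⁻¹ᵁ V.1) ⊤
    (fun _ => homOfLE le_top) (fun y _ => by
      obtain ⟨V, hV, hxV, -⟩ := exists_good_near π ⊤ (π y) trivial
      exact Opens.mem_iSup.2 ⟨⟨V, hV⟩, hxV⟩) a (fun V W => by
      refine TopCat.Presheaf.section_ext Y.sheaf _ _ _ fun y hy => ?_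
      obtain ⟨T, hT, hTV, hTW, hxT, ⟨k₁, x₁⟩, k₂, x₂⟩ := exists_common π V.2 W.2 hy.1 hy.2
      show Y.presheaf.germ _ y hy (Y.presheaf.map _ (a V)) = Y.presheaf.germ _ y hy (Y.presheaf.map _ (a W))
      rw [TopCat.Presheaf.germ_res_apply, TopCat.Presheaf.germ_res_apply,
        ← TopCat.Presheaf.germ_res_apply Y.presheaf (homOfLE (π.preimage_mono hTV)) y hxT,
        ← TopCat.Presheaf.germ_res_apply Y.presheaf (homOfLE (π.preimage_mono hTW)) y hxT]
      exact congrArg (Y.presheaf.germ _ y hxT)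
        ((hares ⟨T, hT⟩ V hTV k₁ x₁).trans (hares ⟨T, hT⟩ W hTW k₂ x₂).symm))
  obtain ⟨s, hs⟩ : ∃ s : Γ(Y, ⊤), ∀ V : {V : X.Opens // Good π V},
      Y.presheaf.map (homOfLE le_top).op s = a V := ⟨s₀, hs₀⟩
  have hmod : ∀ (n : ℕ) (V : {V : X.Opens // Good π V}), a V - e n V ∈ extI π 𝓘 V.2.1 ^ (n + 1) := by
    intro n V
    suffices hh : a V - e n V ∈ ((𝓘 ^ (n + 1)).ideal ⟨V.1, V.2.1⟩).map (π.app V.1).hom by
      rw [Scheme.IdealSheafData.ideal_pow, Pi.pow_apply, Ideal.map_pow] at hh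
      exact hh
    refine mem_map_of_tr_mem π V.2 _ fun b => ?_
    rw [sub_mul, show tr π V.1 (a V * b - e n V * b) = tr π V.1 (a V * b) - tr π V.1 (e n V * b) from
        map_sub (Algebra.trace _ _) _ _, ← red_eq_iff _ V.2.1, ← ha']
    exact (congr($(congrArg (fun f : E ⟶ ClSub.quotMod (𝓘 ^ (n + 1)) => Scheme.Modules.Hom.app f V.1) (hφ n)) b)).trans (hyn n V.1 V.2 b)
  have kill : ∀ d : Γ(Y, ⊤), (∀ n (V : {V : X.Opens // Good π V}),
      Y.presheaf.map (homOfLE le_top).op d ∈ extI π 𝓘 V.2.1 ^ (n + 1)) → d = 0 := by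
    intro d hd
    obtain ⟨ψ, hψ⟩ := exists_trHom π d
    have h0 : ψ = 0 := by
      refine hH.1 ψ 0 fun n => hom_ext_basis (G := {V | Good π V}) (fun U x hx => exists_good_near π U x hx)
        fun V hV b => ?_
      rw [zero_comp]
      show red (𝓘 ^ (n + 1)) V (ψ.app V b) = 0
      rw [hψ V hV b, red_eq_zero_iff _ hV.1]
      refine tr_mem_of_mem_map π _ (Ideal.mul_mem_right _ _ ?_)
      rw [Scheme.IdealSheafData.ideal_pow, Pi.pow_apply, Ideal.map_pow]
      exact hd n ⟨V, hV⟩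
    refine Y.sheaf.eq_of_locally_eq' (fun V : {V : X.Opens // Good π V} => π ⁻¹ᵁ V.1) ⊤
      (fun _ => homOfLE le_top) (fun y _ => by
        obtain ⟨V, hV, hxV, -⟩ := exists_good_near π ⊤ (π y) trivial
        exact Opens.mem_iSup.2 ⟨⟨V, hV⟩, hxV⟩) d 0 fun V => ?_
    show Y.presheaf.map _ d = Y.presheaf.map _ 0
    rw [map_zero]
    refine eq_of_tr π V.2 fun b => ?_
    rw [← hψ V.1 V.2 b, h0, zero_mul]
    exact ((Algebra.trace _ _).map_zero).symm
  have hidem : IsIdempotentElem s := by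
    refine sub_eq_zero.1 (kill _ fun n V => ?_)
    rw [map_sub, map_mul, hs]
    have key : a V * a V - a V =
        (a V - e n V) * (a V + e n V - 1) + (e n V * e n V - e n V) := by ring
    rw [key]
    exact Ideal.add_mem _ (Ideal.mul_mem_right _ _ (hmod n V)) (he n V).1
  have hmem : ∀ y, π y ∈ 𝓘.support → (y ∈ Y.basicOpen s ↔ y ∈ C') := by
    intro y hys
    obtain ⟨V, hV, hxV, -⟩ := exists_good_near π ⊤ (π y) trivial
    rw [← (he 0 ⟨V, hV⟩).2 y hxV hys]
    have h1 : (y ∈ Y.basicOpen s) ↔ y ∈ Y.basicOpen (a ⟨V, hV⟩) := by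
      rw [← hs ⟨V, hV⟩, Scheme.basicOpen_res]
      exact ⟨fun H => ⟨hxV, H⟩, fun H => H.2⟩
    rw [h1, mem_basicOpen_iff π hV.1 hxV, mem_basicOpen_iff π hV.1 hxV]
    have hJ := (mem_support_iff_le π 𝓘 hV.1 hxV).1 hys
    have hd := hJ ((Ideal.pow_le_self (n := 0 + 1) (by omega)) (hmod 0 ⟨V, hV⟩))
    exact ⟨fun H H' => H (by simpa using Ideal.add_mem _ hd H'), fun H H' => H (by simpa using Ideal.sub_mem _ H' hd)⟩
  refine ⟨⟨(Y.basicOpen s : Set Y), Groth.Agent.LefConnLib.isClopen_basicOpen hidem⟩, hmem, fun D hD => ?_⟩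
  obtain ⟨d, hd, hdD⟩ := ClopenFFLib.exists_idem D.isClopen
  suffices hds : d = s from SetLike.coe_injective (hdD.symm.trans (by rw [hds]; rfl))
  refine sub_eq_zero.1 (kill _ fun n V => ?_)
  rw [map_sub, hs]
  let dV := Y.presheaf.map (homOfLE (le_top : π ⁻¹ᵁ V.1 ≤ ⊤)).op d
  have hlift : IsLift π 𝓘 C' n V.2.1 dV := by
    refine ⟨?_, fun y hy hys => ?_⟩
    · rw [← map_mul, hd.eq, sub_self]
      exact zero_mem _
    · rw [← hD y hys, Scheme.basicOpen_res]
      show y ∈ π ⁻¹ᵁ V.1 ⊓ Y.basicOpen d ↔ y ∈ (D : Set Y)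
      rw [← hdD]
      exact ⟨fun H => H.2, fun H => ⟨hy, H⟩⟩
  have h2 := Ideal.sub_mem _ (hlift.sub_mem π 𝓘 C' le_rfl (he n V)) (hmod n V)
  rwa [sub_sub_sub_cancel_right] at h2

/-- **Full faithfulness from bijectivity of homomorphisms into the formal completion.** -/
theorem restrict_full_faithful (h : ∀ D : X.Modules, FlatMod.IsFinLocFree D → Lef.HomToFormalBijective 𝓘 D) :
    (FEt.restrict 𝓘.subschemeι).Full ∧ (FEt.restrict 𝓘.subschemeι).Faithful := by
  refine ClopenFFLib.full_faithful _ fun A C' => ?_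
  haveI : IsFinite (show A.left ⟶ X from A.hom) := A.prop.1
  haveI : Etale (show A.left ⟶ X from A.hom) := A.prop.2
  let p := pullback.fst A.hom 𝓘.subschemeι
  haveI : IsClosedImmersion p := MorphismProperty.pullback_fst _ _ inferInstance
  have hr : Set.range p.base = A.hom ⁻¹' (𝓘.support : Set X) := by
    show Set.range (pullback.fst A.hom 𝓘.subschemeι) = _
    rw [Scheme.Pullback.range_fst, Scheme.IdealSheafData.range_subschemeι]
  have hinj := p.isClosedEmbedding.injective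
  have hdiff : (A.hom ⁻¹' (𝓘.support : Set X)) \ (p.base '' C') = p.base '' (C' : Set _)ᶜ := by
    rw [← hr, ← Set.image_univ, ← Set.image_sdiff hinj, Set.compl_eq_univ_sdiff]
  obtain ⟨C, hC, hu⟩ := existsUnique_clopen (π := (show A.left ⟶ X from A.hom)) h (p.base '' C')
    (by rintro _ ⟨x, -, rfl⟩; exact (hr ▸ Set.mem_range_self x :))
    (p.isClosedEmbedding.isClosedMap _ C'.isClopen.1)
    (hdiff ▸ p.isClosedEmbedding.isClosedMap _ C'.isClopen.compl.1)
  refine ⟨C, Set.ext fun x => ?_, fun D hD => hu D fun y hy => ?_⟩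
  · exact (hC (p x) (hr ▸ Set.mem_range_self x :)).trans hinj.mem_set_image
  · obtain ⟨x, rfl⟩ := (hr ▸ hy : y ∈ Set.range p.base)
    exact (iff_of_eq (congrArg (x ∈ ·) hD)).trans hinj.mem_set_image.symm

end FEtLefLib

end
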