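import Groth.Agent.FEtLefLib.Glue
import Groth.Agent.S2733
import Mathlib.AlgebraicGeometry.Morphisms.Etale
import Mathlib.AlgebraicGeometry.Morphisms.Finite
import Mathlib.RingTheory.Localization.Free
import Mathlib.RingTheory.Spectrum.Prime.FreeLocus
import Mathlib.RingTheory.Trace.Basic
import Mathlib.RingTheory.Norm.Transitivity
import Mathlib.RingTheory.Localization.NormTrace
import Groth.Prelude.Def_Coh

/-!
# The trace pairing of a finite étale morphism
-/

set_option autoImplicit false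
set_option linter.style.haveILetI false

universe u

open CategoryTheory CategoryTheory.Limits AlgebraicGeometry TopologicalSpace Opposite

noncomputable section

namespace FEtLefLib

variable {Y X : Scheme.{u}} (π : Y ⟶ X)

/-- Functions on a preimage as an algebra. -/
@[reducible] def pAlg (V : X.Opens) : Algebra Γ(X, V) Γ(Y, π ⁻¹ᵁ V) := (π.app V).hom.toAlgebra

attribute [local instance] pAlg

/-- Restriction of functions on `X`. -/
abbrev rx {U V : X.Opens} (h : V ≤ U) : Γ(X, U) →+* Γ(X, V) := (X.presheaf.map (homOfLE h).op).hom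

/-- Restriction of functions on preimages. -/
abbrev ry {U V : X.Opens} (h : V ≤ U) : Γ(Y, π ⁻¹ᵁ U) →+* Γ(Y, π ⁻¹ᵁ V) :=
  (Y.presheaf.map (homOfLE (π.preimage_mono h)).op).hom

theorem ry_app {U V : X.Opens} (h : V ≤ U) (a : Γ(X, U)) :
    ry π h (π.app U a) = π.app V (rx h a) :=
  (congr($(π.naturality (homOfLE h).op) a)).symm

/-- Affine opens over which the morphism is free. -/
def Good (V : X.Opens) : Prop := IsAffineOpen V ∧ Module.Free Γ(X, V) Γ(Y, π ⁻¹ᵁ V)

/-- The trace on sections. -/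
def tr (V : X.Opens) (b : Γ(Y, π ⁻¹ᵁ V)) : Γ(X, V) := Algebra.trace Γ(X, V) Γ(Y, π ⁻¹ᵁ V) b

variable [IsFinite π] [Etale π]

theorem moduleFinite {V : X.Opens} (hV : IsAffineOpen V) : Module.Finite Γ(X, V) Γ(Y, π ⁻¹ᵁ V) :=
  RingHom.finite_algebraMap.1 (π.finite_app V hV)

theorem algebraEtale {V : X.Opens} (hV : IsAffineOpen V) : Algebra.Etale Γ(X, V) Γ(Y, π ⁻¹ᵁ V) := by
  refine RingHom.etale_algebraMap.1 ?_
  show (π.app V).hom.Etale
  rw [Scheme.Hom.app_eq_appLE]
  exact HasRingHomProperty.appLE @Etale π ‹_› ⟨V, hV⟩ ⟨π ⁻¹ᵁ V, hV.preimage π⟩ le_rfl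

theorem tr_basicOpen {V : X.Opens} (hV : Good π V) (r : Γ(X, V)) :
    Good π (X.basicOpen r) ∧
      ∀ a, tr π (X.basicOpen r) (ry π (X.basicOpen_le r) a) = rx (X.basicOpen_le r) (tr π V a) := by
  obtain ⟨hVa, hfree⟩ := hV
  let R := Γ(X, V)
  let S := Γ(Y, π ⁻¹ᵁ V)
  let Rm := Γ(X, X.basicOpen r)
  let Sm := Γ(Y, π ⁻¹ᵁ X.basicOpen r)
  letI : Algebra R Rm := (rx (X.basicOpen_le r)).toAlgebra
  letI : Algebra S Sm := (ry π (X.basicOpen_le r)).toAlgebra
  letI : Algebra R Sm := ((ry π (X.basicOpen_le r)).comp (π.app V).hom).toAlgebra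
  haveI : IsScalarTower R S Sm := IsScalarTower.of_algebraMap_eq' rfl
  haveI : IsScalarTower R Rm Sm := IsScalarTower.of_algebraMap_eq fun s => ry_app π (X.basicOpen_le r) s
  haveI : IsLocalization (Submonoid.powers r) Rm := hVa.isLocalization_basicOpen r
  haveI : IsLocalization (Algebra.algebraMapSubmonoid S (Submonoid.powers r)) Sm := by
    rw [show Algebra.algebraMapSubmonoid S (Submonoid.powers r) = Submonoid.powers (algebraMap R S r) from
      Submonoid.map_powers _ _]
    exact (hVa.preimage π).isLocalization_of_eq_basicOpen (π.app V r)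
      (homOfLE (π.preimage_mono (X.basicOpen_le r))) (Scheme.preimage_basicOpen π r)
  haveI := hfree
  haveI := moduleFinite π hVa
  let b := Module.Free.chooseBasis R S
  exact ⟨⟨hVa.basicOpen r, Module.Free.of_basis (b.localizationLocalization Rm (Submonoid.powers r) Sm)⟩,
    fun a => Algebra.trace_localization R (Submonoid.powers r) a⟩

theorem eq_of_tr_basicOpen {V : X.Opens} (hV : IsAffineOpen V) (r : Γ(X, V)) (hD : Good π (X.basicOpen r))
    (hperf : Function.Bijective (Algebra.traceForm Γ(X, X.basicOpen r) Γ(Y, π ⁻¹ᵁ X.basicOpen r)))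
    {x y : Γ(Y, π ⁻¹ᵁ X.basicOpen r)}
    (h : ∀ b, tr π (X.basicOpen r) (x * ry π (X.basicOpen_le r) b) =
      tr π (X.basicOpen r) (y * ry π (X.basicOpen_le r) b)) : x = y := by
  refine hperf.1 (LinearMap.ext fun c => ?_)
  show tr π (X.basicOpen r) (x * c) = tr π (X.basicOpen r) (y * c)
  let S := Γ(Y, π ⁻¹ᵁ V)
  let Sm := Γ(Y, π ⁻¹ᵁ X.basicOpen r)
  letI : Algebra S Sm := (ry π (X.basicOpen_le r)).toAlgebra
  haveI : IsLocalization.Away (π.app V r) Sm :=
    (hV.preimage π).isLocalization_of_eq_basicOpen (π.app V r)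
      (homOfLE (π.preimage_mono (X.basicOpen_le r))) (Scheme.preimage_basicOpen π r)
  obtain ⟨⟨b, ⟨_, k, rfl⟩⟩, hb⟩ := IsLocalization.surj (Submonoid.powers (π.app V r)) c
  have hu : IsUnit (rx (X.basicOpen_le r) r) := by
    haveI := hV.isLocalization_basicOpen r
    exact IsLocalization.Away.algebraMap_isUnit (S := Γ(X, X.basicOpen r)) r
  refine (hu.pow k).mul_left_cancel ?_
  have e : ∀ z : Sm, rx (X.basicOpen_le r) r ^ k * tr π (X.basicOpen r) (z * c) =
      tr π (X.basicOpen r) (z * ry π (X.basicOpen_le r) b) := fun z => by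
    rw [← smul_eq_mul]
    refine ((Algebra.trace Γ(X, X.basicOpen r) Sm).map_smul _ _).symm.trans (congrArg _ ?_)
    rw [Algebra.smul_def, ← mul_left_comm]
    refine congrArg (z * ·) ?_
    show algebraMap Γ(X, X.basicOpen r) Sm _ * c = algebraMap S Sm b
    rw [← hb, mul_comm]
    refine congrArg (c * ·) ?_
    show π.app _ (rx _ r ^ k) = ry π _ (π.app V r ^ k)
    rw [map_pow, map_pow, ry_app]
  rw [e, e, h]

theorem exists_good_near (U : X.Opens) (x : X) (hx : x ∈ U) : ∃ V, Good π V ∧ x ∈ V ∧ V ≤ U := by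
  obtain ⟨W, hW, hxW, hWU⟩ := exists_isAffineOpen_mem_and_subset (x := x) (U := U) hx
  let R := Γ(X, W)
  let S := Γ(Y, π ⁻¹ᵁ W)
  haveI := moduleFinite π hW
  haveI := algebraEtale π hW
  haveI : Module.FinitePresentation R S := .of_finite_of_finitePresentation R S
  haveI : Module.Projective R S := Module.Flat.projective_of_finitePresentation
  let p := hW.primeIdealOf ⟨x, hxW⟩
  haveI : Module.Free (Localization.AtPrime p.asIdeal) (LocalizedModule p.asIdeal.primeCompl S) :=
    Module.free_of_flat_of_isLocalRing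
  obtain ⟨r, hr, hfree, -⟩ := Module.FinitePresentation.exists_free_localizedModule_powers
    p.asIdeal.primeCompl (LocalizedModule.mkLinearMap p.asIdeal.primeCompl S)
    (Localization.AtPrime p.asIdeal)
  refine ⟨X.basicOpen r, ⟨hW.basicOpen r, ?_⟩, ?_, (X.basicOpen_le r).trans hWU⟩
  · let Rm := Γ(X, X.basicOpen r)
    let Sm := Γ(Y, π ⁻¹ᵁ X.basicOpen r)
    letI : Algebra R Rm := (rx (X.basicOpen_le r)).toAlgebra
    letI : Algebra S Sm := (ry π (X.basicOpen_le r)).toAlgebra
    letI : Algebra R Sm := ((ry π (X.basicOpen_le r)).comp (π.app W).hom).toAlgebra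
    haveI : IsScalarTower R S Sm := IsScalarTower.of_algebraMap_eq' rfl
    haveI : IsScalarTower R Rm Sm := IsScalarTower.of_algebraMap_eq fun s => ry_app π (X.basicOpen_le r) s
    haveI : IsLocalization.Away r Rm := hW.isLocalization_basicOpen r
    haveI : IsLocalization (Algebra.algebraMapSubmonoid S (Submonoid.powers r)) Sm := by
      rw [show Algebra.algebraMapSubmonoid S (Submonoid.powers r) = Submonoid.powers (algebraMap R S r) from
        Submonoid.map_powers _ _]
      exact (hW.preimage π).isLocalization_of_eq_basicOpen (π.app W r)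
        (homOfLE (π.preimage_mono (X.basicOpen_le r))) (Scheme.preimage_basicOpen π r)
    haveI : IsLocalizedModule (Submonoid.powers r) (IsScalarTower.toAlgHom R S Sm).toLinearMap :=
      (isLocalizedModule_iff_isLocalization).2 ‹_›
    haveI := hfree
    let b := Module.Free.chooseBasis (Localization.Away r) (LocalizedModule.Away r S)
    let a := IsLocalization.algEquiv (Submonoid.powers r) (Localization.Away r) Rm
    let Φ : Sm ≃ₗ[R] (_ →₀ Rm) :=
      (IsLocalizedModule.iso (Submonoid.powers r) (IsScalarTower.toAlgHom R S Sm).toLinearMap).symm.trans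
        ((b.repr.restrictScalars R).trans (Finsupp.mapRange.linearEquiv a.toLinearEquiv))
    exact Module.Free.of_basis (Module.Basis.ofRepr (Φ.extendScalarsOfIsLocalization (Submonoid.powers r) Rm))
  · letI : Algebra Γ(X, W) (X.presheaf.stalk x) := (X.presheaf.germ W x hxW).hom.toAlgebra
    haveI : IsLocalization p.asIdeal.primeCompl (X.presheaf.stalk x) := hW.isLocalization_stalk ⟨x, hxW⟩
    rw [X.mem_basicOpen r x hxW]
    exact IsLocalization.map_units (X.presheaf.stalk x) (⟨r, hr⟩ : p.asIdeal.primeCompl)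

theorem perfect {V : X.Opens} (hV : Good π V) :
    Function.Bijective (Algebra.traceForm Γ(X, V) Γ(Y, π ⁻¹ᵁ V)) := by
  haveI := hV.2
  haveI := moduleFinite π hV.1
  exact (Groth.Agent.S2733.result Γ(X, V) Γ(Y, π ⁻¹ᵁ V)).1 (algebraEtale π hV.1)

theorem exists_common {V W : X.Opens} (hV : Good π V) (hW : Good π W) {x : X} (hxV : x ∈ V) (hxW : x ∈ W) :
    ∃ (T : X.Opens) (_ : Good π T) (hTV : T ≤ V) (hTW : T ≤ W), x ∈ T ∧
      ((∀ a, tr π T (ry π hTV a) = rx hTV (tr π V a)) ∧
        ∀ u v, (∀ b, tr π T (u * ry π hTV b) = tr π T (v * ry π hTV b)) → u = v) ∧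
      (∀ a, tr π T (ry π hTW a) = rx hTW (tr π W a)) ∧
        ∀ u v, (∀ b, tr π T (u * ry π hTW b) = tr π T (v * ry π hTW b)) → u = v := by
  obtain ⟨f, g, hfg, hxf⟩ := exists_basicOpen_le_affine_inter hV.1 hW.1 x ⟨hxV, hxW⟩
  have k : ∀ (D : X.Opens), D = X.basicOpen g → ∀ e : D ≤ W,
      (∀ a, tr π D (ry π e a) = rx e (tr π W a)) ∧
        ∀ u v, (∀ b, tr π D (u * ry π e b) = tr π D (v * ry π e b)) → u = v := by
    rintro _ rfl e
    exact ⟨(tr_basicOpen π hW g).2, fun u v h => eq_of_tr_basicOpen π hW.1 g (tr_basicOpen π hW g).1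
      (perfect π (tr_basicOpen π hW g).1) h⟩
  exact ⟨X.basicOpen f, (tr_basicOpen π hV f).1, X.basicOpen_le f, hfg.le.trans (X.basicOpen_le g), hxf,
    ⟨(tr_basicOpen π hV f).2, fun u v h => eq_of_tr_basicOpen π hV.1 f (tr_basicOpen π hV f).1
      (perfect π (tr_basicOpen π hV f).1) h⟩, k _ hfg _⟩

theorem eq_of_tr {V : X.Opens} (hV : Good π V) {x y : Γ(Y, π ⁻¹ᵁ V)}
    (h : ∀ b, tr π V (x * b) = tr π V (y * b)) : x = y :=
  (perfect π hV).1 (LinearMap.ext fun b => h b)

omit [IsFinite π] [Etale π] in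
theorem tr_mem_of_mem_map {V : X.Opens} (I : Ideal Γ(X, V)) {x : Γ(Y, π ⁻¹ᵁ V)}
    (hx : x ∈ I.map (π.app V).hom) : tr π V x ∈ I := by
  have key : ∀ z ∈ I.map (π.app V).hom, ∀ b, tr π V (z * b) ∈ I := by
    intro z hz
    refine Submodule.span_induction (p := fun z _ => ∀ b, tr π V (z * b) ∈ I) ?_ ?_ ?_ ?_ hz
    · rintro _ ⟨a, ha, rfl⟩ b
      show Algebra.trace _ _ (algebraMap Γ(X, V) Γ(Y, π ⁻¹ᵁ V) a * b) ∈ I
      rw [← Algebra.smul_def, map_smul, smul_eq_mul]
      exact I.mul_mem_right _ ha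
    · intro b; rw [zero_mul]; show Algebra.trace _ _ 0 ∈ I; rw [map_zero]; exact I.zero_mem
    · intro z w _ _ hz hw b
      show Algebra.trace _ _ ((z + w) * b) ∈ I
      rw [add_mul, map_add]
      exact I.add_mem (hz b) (hw b)
    · intro c z _ hz b
      rw [smul_eq_mul, mul_comm c z, mul_assoc]
      exact hz _
  simpa using key x hx 1

theorem mem_map_of_tr_mem {V : X.Opens} (hV : Good π V) (I : Ideal Γ(X, V)) {x : Γ(Y, π ⁻¹ᵁ V)}
    (h : ∀ b, tr π V (x * b) ∈ I) : x ∈ I.map (π.app V).hom := by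
  classical
  haveI := hV.2
  haveI := moduleFinite π hV.1
  let b := Module.Free.chooseBasis Γ(X, V) Γ(Y, π ⁻¹ᵁ V)
  choose c hc using fun i => (perfect π hV).2 (b.coord i)
  rw [← b.sum_repr x]
  refine Ideal.sum_mem _ fun i _ => ?_
  rw [Algebra.smul_def]
  refine Ideal.mul_mem_right _ _ (Ideal.mem_map_of_mem _ ?_)
  have e := LinearMap.congr_fun (hc i) x
  rw [Algebra.traceForm_apply, Module.Basis.coord_apply, mul_comm] at e
  exact e ▸ h (c i)

section Hom

/-- Multiplication by a function followed by the trace. -/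
theorem exists_trHom (a : Γ(Y, ⊤)) :
    ∃ φ : (Scheme.Modules.pushforward π).obj (Coh.structureModule Y) ⟶ Coh.structureModule X,
      ∀ V, Good π V → ∀ b : Γ(Y, π ⁻¹ᵁ V), φ.app V b = tr π V (Y.presheaf.map (homOfLE le_top).op a * b) := by
  let lam : ∀ V ∈ {V | Good π V}, Γ((Scheme.Modules.pushforward π).obj (Coh.structureModule Y), V) →ₗ[Γ(X, V)]
      Γ(Coh.structureModule X, V) := fun V _ =>
    { toFun := fun b => tr π V (Y.presheaf.map (homOfLE le_top).op a * (show Γ(Y, π ⁻¹ᵁ V) from b))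
      map_add' := fun b c => (congrArg (tr π V) (mul_add _ _ _)).trans (map_add (Algebra.trace _ _) _ _)
      map_smul' := fun r b => by
        show Algebra.trace _ _ (_ * (algebraMap Γ(X, V) Γ(Y, π ⁻¹ᵁ V) r * _)) = r * Algebra.trace _ _ _
        rw [mul_left_comm, ← Algebra.smul_def, map_smul, smul_eq_mul] }
  obtain ⟨φ, hφ⟩ := exists_hom_of_basis (G := {V | Good π V}) (fun U x hx => exists_good_near π U x hx) lam
    fun V hV W hW x hxV hxW => by
      obtain ⟨T, hT, hTV, hTW, hxT, ⟨k₁, -⟩, k₂, -⟩ := exists_common π hV hW hxV hxW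
      have hr : ∀ {U : X.Opens} (h : T ≤ U) (b : Γ(Y, π ⁻¹ᵁ U)),
          ry π h (Y.presheaf.map (homOfLE le_top).op a * b) =
            Y.presheaf.map (homOfLE le_top).op a * ry π h b := fun {U} h b => by
        rw [map_mul]
        refine congrArg (· * ry π h b) ?_
        show (Y.presheaf.map _ ≫ Y.presheaf.map _) a = _
        rw [← Y.presheaf.map_comp]
        rfl
      exact ⟨T, hT, hTV, hTW, hxT, fun b => (k₁ _).symm.trans (congrArg (tr π T) (hr hTV _)),
        fun b => (k₂ _).symm.trans (congrArg (tr π T) (hr hTW _))⟩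
  exact ⟨φ, fun V hV b => hφ V hV b⟩

end Hom

end FEtLefLib

end
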